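import Cfsg.Agent.H26.RIM.Wt
import Cfsg.Agent.H665.RIM.Defs

/-!
# A group `2^11` with `M_23` acting (helper26, for S4816)

`Dat H` : commuting involutions `a i`, `i < 23`, of a group `H` with the relations of the Golay code, and elements `y`, `x`, `z`
of `H` permuting them by `i ↦ i + 1`, `i ↦ 2 i` and by a permutation of order 5 of `M_23`. The weights of a module are words of
the even part of the Golay code of length 23; the group generated by `y`, `x`, `z` has the orbits 253, 506, 1288 on them.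

* `E k` : the word with the first 11 letters (bits) given by `k < 2048`; `wt k i` its letters.
* `Dat.noPEx` : `H` has no faithful module over `F_p` with all orbits of length prime to `p`, for `p = 5` (`|H| < 5 ^ (36 + e)`),
  `p = 11` (`|H| < 11 ^ (30 + e)`), `p = 23` (`|H| < 23 ^ (22 + e)`), `p ^ e` dividing `|H|`.
-/

set_option autoImplicit false
set_option linter.unusedSectionVars false

namespace Cfsg.Agent.H26.RIM.M23

open MulAction Cfsg.Agent.H26.RIM.Ws

universe u v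

/-! ### the code -/

/-- evaluate the first argument -/
def fc {α : Type} (n : ℕ) (k : ℕ → α) : α := Nat.rec (k 0) (fun m _ => k (m + 1)) n

theorem fc_eq {α : Type} (n : ℕ) (k : ℕ → α) : fc n k = k n := by cases n <;> rfl

/-- the word of the state `k` -/
def E (k : ℕ) : ℕ := fc k fun k =>
  (k % 2 * 7940097) ^^^ (k / 2 % 2 * 751618) ^^^ (k / 4 % 2 * 1503236) ^^^ (k / 8 % 2 * 3006472) ^^^ (k / 16 % 2 * 6012944) ^^^
  (k / 32 % 2 * 5154848) ^^^ (k / 64 % 2 * 6584384) ^^^ (k / 128 % 2 * 3266688) ^^^ (k / 256 % 2 * 6533376) ^^^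
  (k / 512 % 2 * 4082176) ^^^ (k / 1024 % 2 * 8164352)

/-- a letter -/
def bt (m i : ℕ) : ℕ := m / 2 ^ i % 2

theorem testBit_eq (m i : ℕ) : m.testBit i = decide (bt m i = 1) := Nat.testBit_eq_decide_div_mod_eq

/-- collect letters -/
def pk (m : ℕ) : List ℕ → ℕ
  | [] => 0
  | j :: l => bt m j + 2 * pk m l

theorem pk_lt (m : ℕ) : ∀ l : List ℕ, pk m l < 2 ^ l.length
  | [] => by simp [pk]
  | j :: l => by
    have h := pk_lt m l
    have h1 : bt m j < 2 := Nat.mod_lt _ two_pos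
    rw [List.length_cons, pow_succ]
    unfold pk
    omega

theorem testBit_pk (m : ℕ) : ∀ (l : List ℕ) (i : ℕ) (hi : i < l.length), (pk m l).testBit i = m.testBit l[i]
  | [], i, hi => absurd hi (by simp)
  | j :: l, 0, _ => by
    have h1 : bt m j < 2 := Nat.mod_lt _ two_pos
    rw [testBit_eq, testBit_eq]
    congr 2
    unfold pk
    rw [bt, pow_zero, Nat.div_one, List.getElem_cons_zero]
    omega
  | j :: l, i + 1, hi => by
    have h1 : bt m j < 2 := Nat.mod_lt _ two_pos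
    have h2 : pk m (j :: l) / 2 = pk m l := by
      change (bt m j + 2 * pk m l) / 2 = pk m l
      omega
    rw [Nat.testBit_succ, h2, testBit_pk m l i (by simpa using hi), List.getElem_cons_succ]

/-- the recurrence -/
def rc (m i : ℕ) : ℕ :=
  (bt m i + bt m (i + 1) + bt m (i + 5) + bt m (i + 6) + bt m (i + 7) + bt m (i + 9) + bt m (i + 11)) % 2

theorem chk_low : (List.range 2048).all (fun k => fc (E k) fun m => (List.range 11).all fun i => bt m i == bt k i) = true := by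
  decide +kernel

theorem chk_rec : (List.range 2048).all (fun k => fc (E k) fun m => (List.range 12).all fun i => rc m i == 0) = true := by
  decide +kernel

theorem low {k i : ℕ} (hk : k < 2048) (hi : i < 11) : (E k).testBit i = k.testBit i := by
  have h0 := List.all_eq_true.1 chk_low k (List.mem_range.2 hk)
  rw [fc_eq] at h0
  have h1 := List.all_eq_true.1 h0 i (List.mem_range.2 hi)
  rw [testBit_eq, testBit_eq, eq_of_beq h1]

theorem rec_eq {k i : ℕ} (hk : k < 2048) (hi : i < 12) : rc (E k) i = 0 := by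
  have h0 := List.all_eq_true.1 chk_rec k (List.mem_range.2 hk)
  rw [fc_eq] at h0
  exact eq_of_beq (List.all_eq_true.1 h0 i (List.mem_range.2 hi))

/-- the weight of the state `k` -/
def wt (k : ℕ) (i : Fin 23) : Bool := (E k).testBit i

theorem bt_eq (m i : ℕ) : bt m i = if m.testBit i then 1 else 0 := by
  rw [testBit_eq]
  have h1 : bt m i < 2 := Nat.mod_lt _ two_pos
  by_cases h : bt m i = 1
  · simp [h]
  · simp [h]
    omega

/-- the recurrence for a function -/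
def Rc (s : Fin 23 → Bool) : Prop :=
  ∀ i : Fin 23, (([0, 1, 5, 6, 7, 9, 11] : List (Fin 23)).map fun j => s (i + j)).foldr xor false = false

theorem Rc.step {s : Fin 23 → Bool} (h : Rc s) {i : ℕ} (hi : i < 12) : s ⟨i + 11, by omega⟩ =
    (xor (s ⟨i, by omega⟩) (xor (s ⟨i + 1, by omega⟩) (xor (s ⟨i + 5, by omega⟩) (xor (s ⟨i + 6, by omega⟩)
      (xor (s ⟨i + 7, by omega⟩) (s ⟨i + 9, by omega⟩)))))) := by
  have h1 := h ⟨i, by omega⟩
  have e : ∀ j : ℕ, ∀ (hj : j < 12), (⟨i, by omega⟩ : Fin 23) + ⟨j, by omega⟩ = ⟨i + j, by omega⟩ := by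
    intro j hj
    apply Fin.ext
    rw [Fin.val_add]
    exact Nat.mod_eq_of_lt (by simp only; omega)
  have e0 := e 0 (by omega)
  have e1 := e 1 (by omega)
  have e5 := e 5 (by omega)
  have e6 := e 6 (by omega)
  have e7 := e 7 (by omega)
  have e9 := e 9 (by omega)
  have e11 := e 11 (by omega)
  simp only [List.map_cons, List.map_nil, List.foldr_cons, List.foldr_nil] at h1
  change (s (⟨i, _⟩ + ⟨0, _⟩) ^^ (s (⟨i, _⟩ + ⟨1, _⟩) ^^ (s (⟨i, _⟩ + ⟨5, _⟩) ^^ (s (⟨i, _⟩ + ⟨6, _⟩) ^^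
    (s (⟨i, _⟩ + ⟨7, _⟩) ^^ (s (⟨i, _⟩ + ⟨9, _⟩) ^^ (s (⟨i, _⟩ + ⟨11, _⟩) ^^ false))))))) = false at h1
  rw [e0, e1, e5, e6, e7, e9, e11] at h1
  simp only [Nat.add_zero] at h1
  revert h1
  generalize s ⟨i, _⟩ = b0
  generalize s ⟨i + 1, _⟩ = b1
  generalize s ⟨i + 5, _⟩ = b5
  generalize s ⟨i + 6, _⟩ = b6
  generalize s ⟨i + 7, _⟩ = b7
  generalize s ⟨i + 9, _⟩ = b9
  generalize s ⟨i + 11, _⟩ = b11
  revert b0 b1 b5 b6 b7 b9 b11
  decide

theorem wt_step {k : ℕ} (hk : k < 2048) {i : ℕ} (hi : i < 12) : wt k ⟨i + 11, by omega⟩ =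
    (xor (wt k ⟨i, by omega⟩) (xor (wt k ⟨i + 1, by omega⟩) (xor (wt k ⟨i + 5, by omega⟩) (xor (wt k ⟨i + 6, by omega⟩)
      (xor (wt k ⟨i + 7, by omega⟩) (wt k ⟨i + 9, by omega⟩)))))) := by
  have h1 := rec_eq hk hi
  unfold rc at h1
  simp only [bt_eq] at h1
  unfold wt
  revert h1
  simp only
  generalize (E k).testBit i = b0
  generalize (E k).testBit (i + 1) = b1
  generalize (E k).testBit (i + 5) = b5
  generalize (E k).testBit (i + 6) = b6
  generalize (E k).testBit (i + 7) = b7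
  generalize (E k).testBit (i + 9) = b9
  generalize (E k).testBit (i + 11) = b11
  revert b0 b1 b5 b6 b7 b9 b11
  decide

/-- two words with the recurrence and the same first 11 letters -/
theorem eq_of_low {s t : Fin 23 → Bool} (hs : ∀ (i : ℕ) (hi : i < 12), s ⟨i + 11, by omega⟩ =
      (xor (s ⟨i, by omega⟩) (xor (s ⟨i + 1, by omega⟩) (xor (s ⟨i + 5, by omega⟩) (xor (s ⟨i + 6, by omega⟩)
        (xor (s ⟨i + 7, by omega⟩) (s ⟨i + 9, by omega⟩)))))))
    (ht : ∀ (i : ℕ) (hi : i < 12), t ⟨i + 11, by omega⟩ =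
      (xor (t ⟨i, by omega⟩) (xor (t ⟨i + 1, by omega⟩) (xor (t ⟨i + 5, by omega⟩) (xor (t ⟨i + 6, by omega⟩)
        (xor (t ⟨i + 7, by omega⟩) (t ⟨i + 9, by omega⟩)))))))
    (h : ∀ (i : ℕ) (hi : i < 11), s ⟨i, by omega⟩ = t ⟨i, by omega⟩) : s = t := by
  have key : ∀ (n : ℕ) (hn : n < 23), s ⟨n, hn⟩ = t ⟨n, hn⟩ := by
    intro n
    induction n using Nat.strong_induction_on with
    | _ n ih =>
      intro hn
      by_cases h1 : n < 11
      · exact h n h1
      · obtain ⟨i, rfl⟩ : ∃ i, n = i + 11 := ⟨n - 11, by omega⟩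
        rw [hs i (by omega), ht i (by omega), ih i (by omega), ih (i + 1) (by omega), ih (i + 5) (by omega),
          ih (i + 6) (by omega), ih (i + 7) (by omega), ih (i + 9) (by omega)]
  funext i
  exact key i.1 i.2

theorem wt_inj {k l : ℕ} (hk : k < 2048) (hl : l < 2048) (h : wt k = wt l) : k = l := by
  apply Nat.eq_of_testBit_eq
  intro i
  by_cases hi : i < 11
  · have h1 := congrFun h ⟨i, by omega⟩
    unfold wt at h1
    simp only at h1
    rwa [low hk hi, low hl hi] at h1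
  · rw [Nat.testBit_eq_false_of_lt, Nat.testBit_eq_false_of_lt]
    · exact hl.trans_le (Nat.pow_le_pow_right two_pos (by omega : 11 ≤ i))
    · exact hk.trans_le (Nat.pow_le_pow_right two_pos (by omega : 11 ≤ i))

/-- every word with the recurrence is `wt k` -/
theorem Rc.exists_wt {s : Fin 23 → Bool} (h : Rc s) {m : ℕ} {l : List ℕ} (hl : l.length = 11)
    (hm : ∀ (i : ℕ) (hi : i < 11), s ⟨i, by omega⟩ = m.testBit (l[i]'(by omega))) : s = wt (pk m l) := by
  have hlt : pk m l < 2048 := by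
    have := pk_lt m l
    rwa [hl] at this
  refine eq_of_low (fun i hi => h.step hi) (fun i hi => wt_step hlt hi) fun i hi => ?_
  rw [hm i hi]
  unfold wt
  simp only
  rw [low hlt hi, testBit_pk m l i (by omega)]

/-! ### the states -/

def ly : List ℕ := [1, 2, 3, 4, 5, 6, 7, 8, 9, 10, 11]
def lx : List ℕ := [0, 2, 4, 6, 8, 10, 12, 14, 16, 18, 20]
def lz : List ℕ := [0, 9, 3, 13, 1, 19, 12, 10, 8, 6, 14]

def yS (k : ℕ) : ℕ := fc (E k) fun m => pk m ly
def xS (k : ℕ) : ℕ := fc (E k) fun m => pk m lx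
def zS (k : ℕ) : ℕ := fc (E k) fun m => pk m lz

/-- iterates -/
def itr (T : ℕ → ℕ) : ℕ → ℕ → ℕ
  | 0, a => a
  | n + 1, a => itr T n (T a)

theorem itr_succ' (T : ℕ → ℕ) : ∀ (n a : ℕ), itr T (n + 1) a = T (itr T n a)
  | 0, _ => rfl
  | n + 1, a => itr_succ' T n (T a)

/-- the list of the iterates -/
def orbL (T : ℕ → ℕ) : ℕ → ℕ → List ℕ
  | 0, _ => []
  | n + 1, a => a :: orbL T n (T a)

theorem mem_orbL (T : ℕ → ℕ) : ∀ (p a n : ℕ), n < p → itr T n a ∈ orbL T p a
  | 0, _, _, h => absurd h (Nat.not_lt_zero _)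
  | _ + 1, _, 0, _ => List.mem_cons_self
  | p + 1, a, n + 1, h => List.mem_cons_of_mem _ (mem_orbL T p (T a) n (by omega))

/-- evaluation of `orbL` -/
def ol (T : ℕ → ℕ) : ℕ → ℕ → (List ℕ → Bool) → Bool
  | 0, _, k => k []
  | n + 1, a, k => fc (T a) fun b => ol T n b fun l => k (a :: l)

theorem ol_eq (T : ℕ → ℕ) : ∀ (n a : ℕ) (k : List ℕ → Bool), ol T n a k = k (orbL T n a)
  | 0, _, _ => rfl
  | n + 1, a, k => by
    unfold ol
    rw [fc_eq, ol_eq T n]
    rfl

/-- evaluation of a list -/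
def fl : List ℕ → (List ℕ → Bool) → Bool
  | [], k => k []
  | a :: l, k => fc a fun a => fl l fun l => k (a :: l)

theorem fl_eq : ∀ (l : List ℕ) (k : List ℕ → Bool), fl l k = k l
  | [], _ => rfl
  | a :: l, k => by
    unfold fl
    rw [fc_eq, fl_eq l]

/-- moved and pairwise not equivalent -/
def gd (T : ℕ → ℕ) (p : ℕ) : List ℕ → Bool
  | [] => true
  | a :: l => ol T p a fun o => (T a != a) && (l.all fun b => o.all fun c => c != b) && gd T p l

/-- some rotation is smaller -/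
def sm (k : ℕ) : ℕ → ℕ → Bool
  | 0, _ => false
  | n + 1, a => (a != 0 && Nat.blt a k) || fc (yS a) fun b => sm k n b

/-- the tables -/
def T5 : List (List ℕ) := [[0, 1, 2, 3, 4, 5, 6, 7, 8], [0, 1, 2, 3, 4, 5, 6, 7, 9], [0, 1, 2, 3, 4, 6, 7, 8, 9],
  [0, 1, 2, 3, 4, 5, 6, 8, 10], [0, 1, 2, 3, 4, 5, 7, 8, 9], [0, 2, 3, 4, 5, 6, 7, 8, 9], [0, 1, 3, 4, 5, 6, 7, 8, 9],
  [0, 1, 2, 4, 5, 6, 7, 8, 9], [0, 1, 3, 5, 6, 7, 8, 9, 10]]

def ck5 (k : ℕ) : Bool := T5.any fun c => fl (c.map fun m => itr yS m k) (gd zS 5)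

def ck11 (k : ℕ) : Bool := fl ([0, 1, 2].map fun m => itr yS m k) (gd xS 11) ||
  fl ([0, 1, 2].map fun m => itr yS m (zS k)) (gd xS 11)

theorem chk : (List.range 2048).all (fun k => k == 0 || sm k 23 k || (ck5 k && ck11 k)) = true := by decide +kernel

theorem chk23 : (List.range 2048).all (fun k => k == 0 || yS k != k) = true := by decide +kernel

/-! ### sets of states -/

theorem lt_of_pk (m : ℕ) {l : List ℕ} (hl : l.length = 11) : pk m l < 2048 := by
  have := pk_lt m l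
  rwa [hl] at this

theorem yS_eq (k : ℕ) : yS k = pk (E k) ly := fc_eq _ _
theorem xS_eq (k : ℕ) : xS k = pk (E k) lx := fc_eq _ _
theorem zS_eq (k : ℕ) : zS k = pk (E k) lz := fc_eq _ _

theorem yS_lt (k : ℕ) : yS k < 2048 := yS_eq k ▸ lt_of_pk _ rfl

theorem itr_mem {C : Set ℕ} {T : ℕ → ℕ} (hT : ∀ k ∈ C, T k ∈ C) : ∀ (n k : ℕ), k ∈ C → itr T n k ∈ C
  | 0, _, h => h
  | n + 1, k, h => itr_mem hT n (T k) (hT k h)

theorem sm_spec {k : ℕ} : ∀ (n a : ℕ), sm k n a = true → ∃ m, itr yS m a ≠ 0 ∧ itr yS m a < k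
  | 0, a, h => absurd h (by simp [sm])
  | n + 1, a, h => by
    unfold sm at h
    rw [fc_eq, Bool.or_eq_true, Bool.and_eq_true] at h
    rcases h with ⟨h1, h2⟩ | h
    · exact ⟨0, by simpa [itr] using h1, by simpa [itr, Nat.blt_eq] using h2⟩
    · obtain ⟨m, hm⟩ := sm_spec n (yS a) h
      exact ⟨m + 1, hm⟩

theorem gd_cons {T : ℕ → ℕ} {p a : ℕ} {l : List ℕ} (h : gd T p (a :: l) = true) :
    T a ≠ a ∧ (∀ b ∈ l, ∀ n < p, itr T n a ≠ b) ∧ gd T p l = true := by
  unfold gd at h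
  rw [ol_eq, Bool.and_eq_true, Bool.and_eq_true, List.all_eq_true] at h
  obtain ⟨⟨h1, h2⟩, h3⟩ := h
  refine ⟨by simpa using h1, fun b hb n hn => ?_, h3⟩
  have h4 := List.all_eq_true.1 (h2 b hb) _ (mem_orbL T p a n hn)
  simpa using h4

/-- **`p = 5` and `p = 11`.** -/
theorem exists_list {C : Set ℕ} (hC : ∀ k ∈ C, k < 2048) (hy : ∀ k ∈ C, yS k ∈ C) (hz : ∀ k ∈ C, zS k ∈ C) :
    ∀ k ∈ C, k ≠ 0 → (∃ l : List ℕ, l.length = 9 ∧ (∀ a ∈ l, a ∈ C) ∧ gd zS 5 l = true) ∧
      (∃ l : List ℕ, l.length = 3 ∧ (∀ a ∈ l, a ∈ C) ∧ gd xS 11 l = true) := by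
  intro k
  induction k using Nat.strong_induction_on with
  | _ k ih =>
    intro hk h0
    have h1 := List.all_eq_true.1 chk k (List.mem_range.2 (hC k hk))
    rw [Bool.or_eq_true, Bool.or_eq_true] at h1
    rcases h1 with (h1 | h1) | h1
    · exact absurd (by simpa using h1) h0
    · obtain ⟨m, hm0, hm⟩ := sm_spec 23 k h1
      exact ih _ hm (itr_mem hy m k hk) hm0
    · rw [Bool.and_eq_true] at h1
      obtain ⟨h5, h11⟩ := h1
      constructor
      · obtain ⟨c, hc, h2⟩ := List.any_eq_true.1 h5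
        rw [fl_eq] at h2
        refine ⟨_, ?_, fun a ha => ?_, h2⟩
        · rw [List.length_map]
          exact (by decide : ∀ c ∈ T5, c.length = 9) c hc
        · obtain ⟨m, -, rfl⟩ := List.mem_map.1 ha
          exact itr_mem hy m k hk
      · unfold ck11 at h11
        rw [Bool.or_eq_true, fl_eq, fl_eq] at h11
        rcases h11 with h2 | h2
        · refine ⟨_, rfl, fun a ha => ?_, h2⟩
          obtain ⟨m, -, rfl⟩ := List.mem_map.1 ha
          exact itr_mem hy m k hk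
        · refine ⟨_, rfl, fun a ha => ?_, h2⟩
          obtain ⟨m, -, rfl⟩ := List.mem_map.1 ha
          exact itr_mem hy m _ (hz k hk)

/-! ### the data -/

/-- `i ↦ i + 1` -/
def py : Equiv.Perm (Fin 23) := ⟨fun i => i + 1, fun i => i - 1, by decide, by decide⟩

/-- `i ↦ 2 i` -/
def px : Equiv.Perm (Fin 23) := ⟨fun i => 2 * i, fun i => 12 * i, by decide, by decide⟩

def fz : Fin 23 → Fin 23 := ![0, 9, 3, 13, 1, 19, 12, 10, 8, 6, 14, 15, 4, 16, 11, 7, 18, 22, 2, 21, 20, 17, 5]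
def gz : Fin 23 → Fin 23 := ![0, 4, 18, 2, 12, 22, 9, 15, 8, 1, 7, 14, 6, 3, 10, 11, 13, 21, 16, 5, 20, 19, 17]

/-- a permutation of order 5 -/
def pz : Equiv.Perm (Fin 23) := ⟨fz, gz, by decide, by decide⟩

theorem py_pow : py ^ 23 = 1 := by decide +kernel
theorem px_pow : px ^ 11 = 1 := by decide +kernel
theorem pz_pow : pz ^ 5 = 1 := by decide +kernel

/-- The data. -/
structure Dat (H : Type u) [Group H] where
  a : Fin 23 → H
  comm : ∀ i j, a i * a j = a j * a i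
  sq : ∀ i, a i * a i = 1
  ne : a 0 ≠ 1
  rel : ∀ i, (([0, 1, 5, 6, 7, 9, 11] : List (Fin 23)).map fun j => a (i + j)).prod = 1
  y : H
  x : H
  z : H
  hy : ∀ i, y * a i * y⁻¹ = a (py i)
  hx : ∀ i, x * a i * x⁻¹ = a (px i)
  hz : ∀ i, z * a i * z⁻¹ = a (pz i)

section

variable {H : Type u} {V : Type v} [Group H] [AddCommGroup V] [DistribMulAction H V] (D : Dat H)
variable {p : ℕ} [hp : Fact p.Prime] (hp2 : p ≠ 2) (hV : ∀ v : V, p • v = 0)

include hp2 hV in
theorem Dat.rc {s : Fin 23 → Bool} (h : Occ V D.a s) : Rc s := by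
  intro i
  let : Module (ZMod p) V := AddCommGroup.zmodModule hV
  have h1 := h.rel (p := p) hp2 (l := ([0, 1, 5, 6, 7, 9, 11] : List (Fin 23)).map fun j => i + j) (by
    rw [List.map_map]
    exact D.rel i)
  rwa [List.map_map] at h1

/-- the occurring states -/
def Dat.C (V : Type v) [AddCommGroup V] [DistribMulAction H V] : Set ℕ := {k | k < 2048 ∧ Occ V D.a (wt k)}

include hp2 hV in
/-- conjugation -/
theorem Dat.step {g : H} {π : Equiv.Perm (Fin 23)} (hg : ∀ i, g * D.a i * g⁻¹ = D.a (π i)) {l : List ℕ} (hl : l.length = 11)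
    (hlπ : ∀ (i : ℕ) (hi : i < 11), l[i]'(by omega) = (π ⟨i, by omega⟩ : ℕ)) {k : ℕ} (hk : k ∈ D.C V) :
    pk (E k) l ∈ D.C V ∧ ∀ i, wt (pk (E k) l) i = wt k (π i) := by
  have h1 : Occ V D.a fun i => wt k (π i) := by
    refine hk.2.conj g⁻¹ (π := π.symm) π.symm.surjective (fun i => ?_) fun i => by rw [Equiv.apply_symm_apply]
    have h2 := hg (π.symm i)
    rw [Equiv.apply_symm_apply] at h2
    rw [← h2]
    group
  have h2 : (fun i => wt k (π i)) = wt (pk (E k) l) := by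
    refine (D.rc hp2 hV h1).exists_wt hl fun i hi => ?_
    unfold wt
    rw [hlπ i hi]
  refine ⟨⟨lt_of_pk _ hl, ?_⟩, fun i => (congrFun h2 i).symm⟩
  rw [← h2]
  exact h1

include hp2 hV in
theorem Dat.stepy {k : ℕ} (hk : k ∈ D.C V) : yS k ∈ D.C V ∧ ∀ i, wt (yS k) i = wt k (py i) := by
  rw [yS_eq]
  refine D.step hp2 hV D.hy rfl ?_ hk
  decide

include hp2 hV in
theorem Dat.stepx {k : ℕ} (hk : k ∈ D.C V) : xS k ∈ D.C V ∧ ∀ i, wt (xS k) i = wt k (px i) := by
  rw [xS_eq]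
  refine D.step hp2 hV D.hx rfl ?_ hk
  decide

include hp2 hV in
theorem Dat.stepz {k : ℕ} (hk : k ∈ D.C V) : zS k ∈ D.C V ∧ ∀ i, wt (zS k) i = wt k (pz i) := by
  rw [zS_eq]
  refine D.step hp2 hV D.hz rfl ?_ hk
  decide

theorem Dat.iter {T : ℕ → ℕ} {π : Equiv.Perm (Fin 23)} (hT : ∀ k ∈ D.C V, T k ∈ D.C V ∧ ∀ i, wt (T k) i = wt k (π i)) {k : ℕ}
    (hk : k ∈ D.C V) (n : ℕ) : itr T n k ∈ D.C V ∧ ∀ i, wt (itr T n k) i = wt k ((π ^ n) i) := by
  induction n with
  | zero => exact ⟨hk, fun i => rfl⟩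
  | succ n ih =>
    rw [itr_succ']
    obtain ⟨h1, h2⟩ := hT _ ih.1
    refine ⟨h1, fun i => ?_⟩
    rw [h2, ih.2, ← Equiv.Perm.mul_apply, ← pow_succ]

/-- the finset of the weights of a list of states -/
noncomputable def fs (l : List ℕ) : Finset (Fin 23 → Bool) := by classical exact (l.map wt).toFinset

theorem mem_fs {l : List ℕ} {s : Fin 23 → Bool} : s ∈ fs l ↔ ∃ k ∈ l, wt k = s := by
  classical
  unfold fs
  rw [List.mem_toFinset, List.mem_map]

/-- from a good list of states to a finset of weights -/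
theorem Dat.exists_fs {T : ℕ → ℕ} {q : ℕ} (hq : 0 < q) {π : Equiv.Perm (Fin 23)} (hπ : π ^ q = 1)
    (hT : ∀ k ∈ D.C V, T k ∈ D.C V ∧ ∀ i, wt (T k) i = wt k (π i)) :
    ∀ (l : List ℕ), (∀ a ∈ l, a ∈ D.C V) → gd T q l = true → (fs l).card = l.length ∧
      (∀ s ∈ fs l, ∃ i, s (π i) ≠ s i) ∧ ∀ s ∈ fs l, ∀ t ∈ fs l, ∀ n : ℕ, (∀ i, s ((π ^ n) i) = t i) → s = t
  | [], _, _ => by
    have h0 : fs [] = ∅ := by
      ext s
      rw [mem_fs]
      simp
    rw [h0]
    simp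
  | a :: l, hl, h => by
    classical
    obtain ⟨h1, h2, h3⟩ := gd_cons h
    obtain ⟨h4, h5, h6⟩ := Dat.exists_fs hq hπ hT l (fun b hb => hl b (List.mem_cons_of_mem _ hb)) h3
    have ha := hl a List.mem_cons_self
    have hfs : fs (a :: l) = insert (wt a) (fs l) := by
      ext s
      rw [mem_fs, Finset.mem_insert, mem_fs]
      constructor
      · rintro ⟨k, hk, rfl⟩
        rcases List.mem_cons.1 hk with rfl | hk
        · exact Or.inl rfl
        · exact Or.inr ⟨k, hk, rfl⟩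
      · rintro (rfl | ⟨k, hk, rfl⟩)
        · exact ⟨a, List.mem_cons_self, rfl⟩
        · exact ⟨k, List.mem_cons_of_mem _ hk, rfl⟩
    -- `a` is not equivalent to the members of `l`
    have key : ∀ b ∈ l, ∀ n : ℕ, ¬ ∀ i, wt a ((π ^ n) i) = wt b i := by
      intro b hb n hn
      have e1 : π ^ n = π ^ (n % q) := by
        conv_lhs => rw [← Nat.div_add_mod n q, pow_add, pow_mul, hπ, one_pow, one_mul]
      have h7 := D.iter hT ha (n % q)
      refine h2 b hb (n % q) (Nat.mod_lt _ hq) (wt_inj h7.1.1 (hl b (List.mem_cons_of_mem _ hb)).1 (funext fun i => ?_))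
      rw [h7.2, ← e1, hn]
    have hneq : ∀ b ∈ l, ∀ n : ℕ, ¬ ∀ i, wt b ((π ^ n) i) = wt a i := by
      intro b hb n hn
      refine key b hb (q * n - n) fun i => ?_
      rw [← hn, ← Equiv.Perm.mul_apply, ← pow_add, Nat.add_sub_cancel' (Nat.le_mul_of_pos_left _ hq), pow_mul, hπ, one_pow,
        Equiv.Perm.one_apply]
    have hnot : wt a ∉ fs l := by
      rw [mem_fs]
      rintro ⟨b, hb, hab⟩
      exact key b hb 0 fun i => by rw [hab]; rfl
    rw [hfs]
    refine ⟨by rw [Finset.card_insert_of_notMem hnot, h4, List.length_cons], fun s hs => ?_, fun s hs t ht n hn => ?_⟩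
    · rcases Finset.mem_insert.1 hs with rfl | hs
      · by_contra hcon
        push Not at hcon
        obtain ⟨h8, h9⟩ := hT a ha
        exact h1 (wt_inj h8.1 ha.1 (funext fun i => by rw [h9, hcon]))
      · exact h5 s hs
    · rcases Finset.mem_insert.1 hs with rfl | hs
      · rcases Finset.mem_insert.1 ht with rfl | ht
        · rfl
        · obtain ⟨b, hb, rfl⟩ := mem_fs.1 ht
          exact absurd hn (key b hb n)
      · rcases Finset.mem_insert.1 ht with rfl | ht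
        · obtain ⟨b, hb, rfl⟩ := mem_fs.1 hs
          exact absurd hn (hneq b hb n)
        · exact h6 s hs t ht n hn

include hp2 hV in
/-- a state occurs -/
theorem Dat.exists_mem (hf : ∀ h : H, (∀ v : V, h • v = v) → h = 1) : ∃ k ∈ D.C V, k ≠ 0 := by
  obtain ⟨s, hs, hs0⟩ := exists_occ (p := p) hp2 hV D.comm D.sq (i₀ := 0) (by
    by_contra hcon
    push Not at hcon
    exact D.ne (hf _ hcon))
  let m : ℕ := Nat.ofBits fun i : Fin 11 => s ⟨i, by omega⟩
  have h1 : s = wt (pk m [0, 1, 2, 3, 4, 5, 6, 7, 8, 9, 10]) := by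
    refine (D.rc hp2 hV hs).exists_wt rfl fun i hi => ?_
    have h2 : ∀ (i : ℕ) (hi : i < 11), ([0, 1, 2, 3, 4, 5, 6, 7, 8, 9, 10] : List ℕ)[i]'(by simpa using hi) = i := by decide
    rw [h2 i hi, Nat.testBit_ofBits_lt _ _ hi]
  refine ⟨_, ⟨lt_of_pk m rfl, h1 ▸ hs⟩, fun h0 => ?_⟩
  rw [h0] at h1
  rw [h1] at hs0
  revert hs0
  decide

end

open Cfsg.Agent.H665.RIM

variable {H : Type u} [Group H] [Finite H] (D : Dat H) {e : ℕ}

include D

theorem Dat.noPEx_five (he : 5 ^ e ∣ Nat.card H) (hlt : Nat.card H < 5 ^ (36 + e)) : NoPEx 5 H := by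
  intro V _ _ _ hV _ hf _ hst
  have : Fact (Nat.Prime 5) := ⟨by norm_num⟩
  obtain ⟨k, hk, hk0⟩ := D.exists_mem (by norm_num) hV hf
  obtain ⟨⟨l, hl, hlC, hg⟩, -⟩ := exists_list (C := D.C V) (fun k hk => hk.1) (fun k hk => (D.stepy (by norm_num) hV hk).1)
    (fun k hk => (D.stepz (by norm_num) hV hk).1) k hk hk0
  obtain ⟨h1, h2, h3⟩ := D.exists_fs (q := 5) (by norm_num) pz_pow (fun k hk => D.stepz (by norm_num) hV hk) l hlC hg
  have h4 := pow_le (p := 5) (by norm_num) hV hst D.hz pz_pow (fs l) (fun s hs => by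
    obtain ⟨k, hk, rfl⟩ := mem_fs.1 hs
    exact (hlC k hk).2) h2 h3 he
  rw [h1, hl] at h4
  exact absurd h4 (not_le.2 hlt)

theorem Dat.noPEx_eleven (he : 11 ^ e ∣ Nat.card H) (hlt : Nat.card H < 11 ^ (30 + e)) : NoPEx 11 H := by
  intro V _ _ _ hV _ hf _ hst
  have : Fact (Nat.Prime 11) := ⟨by norm_num⟩
  obtain ⟨k, hk, hk0⟩ := D.exists_mem (by norm_num) hV hf
  obtain ⟨-, l, hl, hlC, hg⟩ := exists_list (C := D.C V) (fun k hk => hk.1) (fun k hk => (D.stepy (by norm_num) hV hk).1)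
    (fun k hk => (D.stepz (by norm_num) hV hk).1) k hk hk0
  obtain ⟨h1, h2, h3⟩ := D.exists_fs (q := 11) (by norm_num) px_pow (fun k hk => D.stepx (by norm_num) hV hk) l hlC hg
  have h4 := pow_le (p := 11) (by norm_num) hV hst D.hx px_pow (fs l) (fun s hs => by
    obtain ⟨k, hk, rfl⟩ := mem_fs.1 hs
    exact (hlC k hk).2) h2 h3 he
  rw [h1, hl] at h4
  exact absurd h4 (not_le.2 hlt)

theorem Dat.noPEx_twentythree (he : 23 ^ e ∣ Nat.card H) (hlt : Nat.card H < 23 ^ (22 + e)) : NoPEx 23 H := by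
  intro V _ _ _ hV _ hf _ hst
  have : Fact (Nat.Prime 23) := ⟨by norm_num⟩
  obtain ⟨k, hk, hk0⟩ := D.exists_mem (by norm_num) hV hf
  have hg : gd yS 23 [k] = true := by
    have h1 := List.all_eq_true.1 chk23 k (List.mem_range.2 hk.1)
    rw [Bool.or_eq_true] at h1
    rcases h1 with h1 | h1
    · exact absurd (by simpa using h1) hk0
    · unfold gd
      rw [ol_eq, h1]
      simp [gd]
  have hlC : ∀ a ∈ [k], a ∈ D.C V := fun a ha => by
    rw [List.mem_singleton.1 ha]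
    exact hk
  obtain ⟨h1, h2, h3⟩ := D.exists_fs (q := 23) (by norm_num) py_pow (fun k hk => D.stepy (by norm_num) hV hk) [k] hlC hg
  have h4 := pow_le (p := 23) (by norm_num) hV hst D.hy py_pow (fs [k]) (fun s hs => by
    obtain ⟨k, hk, rfl⟩ := mem_fs.1 hs
    exact (hlC k hk).2) h2 h3 he
  rw [h1] at h4
  exact absurd h4 (not_le.2 hlt)

end Cfsg.Agent.H26.RIM.M23
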