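import Cfsg.Agent.H843.Pat
import Cfsg.Agent.H26.RIM.M23

/-!
# `Fi24'`: the group `2^11` with `M_23` (helper26, for S4816)

The points `0, ..., 23` are 24 commuting transpositions; `dat : Dat Fi24'` : `a i = l t_i`, `t_i` the transposition at the point `r i`.
-/

set_option autoImplicit false
set_option maxRecDepth 100000
set_option linter.constructorNameAsVariable false

namespace Cfsg.Agent.H26.RIM.Fi24Dat

open Cfsg Cfsg.Agent.Lib.PermNet Cfsg.Agent.Lib.PermNetPt Cfsg.Agent.Fischer.Fi24RepDef Cfsg.Agent.Fischer.Fi24Rep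
open Cfsg.Agent.Fischer.Fi24Spider (word_append word_cons word_nil)
open Cfsg.Agent.Fischer.Fi24Final (sgn)
open Cfsg.Agent.R08.FiTwentyFour (L finite_Fi24 mem_commutator_iff sgn_L)
open Cfsg.Agent.KFacts.FiTF.Pts Cfsg.Agent.KFacts.FiTF.FixMask Cfsg.Agent.H843.Pat
open Cfsg.Agent.KFacts.FiTF.Defs (tr)
open Cfsg.Spor (Fi24)
open Cfsg.Spor.Fi24 (Gen)
open Cfsg.Agent.H26.RIM.M23

/-! ### words -/

theorem sgn_word (w : List Gen) : sgn (word w) = (-1) ^ w.length := by
  induction w with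
  | nil => rw [word_nil, map_one, List.length_nil, pow_zero]
  | cons x w ih =>
    have h1 : sgn (gen x) = -1 := sgn_L (Cfsg.Agent.R08.FiTwentyFour.gen_mem_L x)
    rw [word_cons, map_mul, ih, h1, List.length_cons, pow_succ', neg_one_mul]

theorem word_mem {w : List Gen} (h : w.length % 2 = 0) : word w ∈ commutator Fi24 := by
  rw [mem_commutator_iff, sgn_word]
  exact Even.neg_one_pow (Nat.even_iff.2 h)

theorem word_one (x : Gen) : word [x] = gen x := by rw [word_cons, word_nil, mul_one]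

/-- the points -/
def r : Fin 23 → ℕ := ![1, 20, 23, 21, 2, 3, 7, 18, 4, 10, 6, 8, 13, 14, 22, 12, 16, 15, 17, 11, 19, 9, 5]

def yw : List Gen := [.f, .g, .e, .f, .d, .e, .b, .c, .d, .h, .i, .f, .d, .e, .c, .d, .h, .g, .f, .e, .d, .c, .b, .a, .g, .f, .e, .b, .c, .d, .h, .i, .j, .g, .e, .f, .d, .e, .b, .c, .d, .h, .i, .e, .f, .d, .e, .b, .c, .d, .h, .j, .g, .f, .e, .d, .c, .b, .a, .f, .g, .j, .f, .g, .f, .c, .d, .e, .b, .c, .d, .h, .i, .d, .h, .e, .d, .b, .c, .b]

def xw : List Gen := [.d, .e, .f, .e, .h, .d, .c, .e, .i, .h, .d, .c, .e, .f, .g, .f, .e, .d, .c, .j, .g, .f, .e, .d, .c, .h, .d, .c, .b, .e, .d, .i, .h, .d, .c, .b, .e, .d, .f, .a, .b, .c, .d, .h, .i, .e, .d, .h, .g, .f, .e, .d, .c, .b, .a, .l, .j, .f, .g, .i, .h, .e, .f, .d, .e, .c, .d, .h, .i, .d, .h, .b, .c, .d]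

def zw : List Gen := [.e, .i, .g, .a, .j, .f, .e, .d, .h, .i, .g, .f, .d, .e, .c, .d, .h, .f, .g, .c, .d, .e, .f, .b, .c, .d, .e, .a, .b, .c, .d, .h, .i, .f, .d, .e, .c, .d, .h, .j, .g, .f, .e, .d, .c, .b, .a, .l, .d, .h, .i, .g, .f, .d, .e, .c, .d, .h, .b, .c, .d, .e, .f, .g, .j, .e, .f, .g, .f, .e, .d, .h, .i, .e, .b, .c, .d, .h, .e, .f, .c, .d]

def w5 : List Gen := [.d, .h, .e, .d]
def w6 : List Gen := [.b, .c, .d, .h, .e, .d, .c, .b]
def w7 : List Gen := [.k, .a, .b, .c, .d, .h, .e, .d, .c, .b, .l, .k]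

/-! ### kernel checks -/

theorem y0 : chkPt (nw yw false) 0 0 = true := by decide +kernel
theorem x0 : chkPt (nw xw false) 0 0 = true := by decide +kernel
theorem z0 : chkPt (nw zw false) 0 0 = true := by decide +kernel

theorem yr : ∀ i : Fin 23, chkPt (nw yw false) (r i) (r (py i)) = true := by decide +kernel
theorem xr : ∀ i : Fin 23, chkPt (nw xw false) (r i) (r (px i)) = true := by decide +kernel
theorem zr : ∀ i : Fin 23, chkPt (nw zw false) (r i) (r (pz i)) = true := by decide +kernel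
theorem lr : ∀ i : Fin 23, chkPt (nw [.l] false) (r i) (r i) = true := by decide +kernel
theorem ar : ∀ i : Fin 23, chkPt (nw [.a] false) (r i) (r i) = true := by decide +kernel

theorem p5 : chkPt (nw w5 false) (pn .c) 5 = true := by decide +kernel
theorem p6 : chkPt (nw w6 false) (pn .a) 6 = true := by decide +kernel
theorem p7 : chkPt (nw w7 false) (pn .a) 7 = true := by decide +kernel

/-- the relation -/
theorem rel0 : chkEq [.l, .d, .h, .e, .d, .c, .d, .e, .h, .d, .l, .a, .l, .c, .l, .e, .l, .k, .a, .b, .c, .d, .h, .e, .d, .c, .b, .l, .k, .a, .k, .l, .b, .c, .d, .e, .h, .d, .c, .b, .a, .k, .l, .h, .l, .b, .c, .d, .h, .e, .d, .c, .b, .a, .b, .c, .d, .e, .h, .d, .c, .b] [] = true := by decide +kernel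

/-! ### the transpositions -/

theorem rho_y0 : rho (word yw) 0 = 0 := rho_of_chkPt y0
theorem rho_x0 : rho (word xw) 0 = 0 := rho_of_chkPt x0
theorem rho_z0 : rho (word zw) 0 = 0 := rho_of_chkPt z0
theorem rho_y (i : Fin 23) : rho (word yw) (r i) = r (py i) := rho_of_chkPt (yr i)
theorem rho_x (i : Fin 23) : rho (word xw) (r i) = r (px i) := rho_of_chkPt (xr i)
theorem rho_z (i : Fin 23) : rho (word zw) (r i) = r (pz i) := rho_of_chkPt (zr i)
theorem rho_l (i : Fin 23) : rho (gen .l) (r i) = r i := by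
  rw [← word_one]
  exact rho_of_chkPt (lr i)
theorem rho_a (i : Fin 23) : rho (gen .a) (r i) = r i := by
  rw [← word_one]
  exact rho_of_chkPt (ar i)

theorem rho_yn (n : ℕ) (i : Fin 23) : rho (word yw ^ n) (r i) = r ((py ^ n) i) := by
  induction n with
  | zero => rw [pow_zero, map_one]; rfl
  | succ n ih => rw [pow_succ' (word yw), map_mul, Equiv.Perm.mul_apply, ih, rho_y, pow_succ' py, Equiv.Perm.mul_apply]

theorem isPt_l : IsPt (gen .l) 0 := isPt_gen .l
theorem isPt_a : IsPt (gen .a) (r 0) := isPt_gen .a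

/-- the transposition at `r i` -/
noncomputable def t (i : Fin 23) : Fi24 := word yw ^ (i : ℕ) * gen .a * (word yw ^ (i : ℕ))⁻¹

theorem py_pow_zero : ∀ i : Fin 23, (py ^ (i : ℕ)) 0 = i := by decide +kernel

theorem isPt_t (i : Fin 23) : IsPt (t i) (r i) := by
  have h1 := isPt_a.conj (word yw ^ (i : ℕ))
  rwa [rho_yn, py_pow_zero] at h1

theorem t_zero : t 0 = gen .a := by
  unfold t
  rw [Fin.val_zero, pow_zero, one_mul, inv_one, mul_one]

theorem conj_t {g : Fi24} {π : Fin 23 → Fin 23} (hg : ∀ i, rho g (r i) = r (π i)) (i : Fin 23) : g * t i * g⁻¹ = t (π i) :=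
  (isPt_t i).conj_eq (isPt_t (π i)) (hg i)

theorem conj_l {g : Fi24} (hg : rho g 0 = 0) : g * gen .l * g⁻¹ = gen .l := isPt_l.conj_eq isPt_l hg

theorem comm_l (i : Fin 23) : gen .l * t i = t i * gen .l := ((isPt_t i).comm_iff _).2 (rho_l i)

theorem comm_a (i : Fin 23) : gen .a * t i = t i * gen .a := ((isPt_t i).comm_iff _).2 (rho_a i)

theorem comm_t (i j : Fin 23) : t i * t j = t j * t i := by
  have h1 : ∀ n : ℕ, ∀ k : Fin 23, word yw ^ n * t k * (word yw ^ n)⁻¹ = t ((py ^ n) k) := fun n k =>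
    conj_t (rho_yn n) k
  obtain ⟨k, hk⟩ := (py ^ (i : ℕ)).surjective j
  have e1 : t i = word yw ^ (i : ℕ) * gen .a * (word yw ^ (i : ℕ))⁻¹ := rfl
  have e2 : t j = word yw ^ (i : ℕ) * t k * (word yw ^ (i : ℕ))⁻¹ := by rw [h1, hk]
  rw [e1, e2]
  calc word yw ^ (i : ℕ) * gen .a * (word yw ^ (i : ℕ))⁻¹ * (word yw ^ (i : ℕ) * t k * (word yw ^ (i : ℕ))⁻¹)
      = word yw ^ (i : ℕ) * (gen .a * t k) * (word yw ^ (i : ℕ))⁻¹ := by group
    _ = word yw ^ (i : ℕ) * (t k * gen .a) * (word yw ^ (i : ℕ))⁻¹ := by rw [comm_a]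
    _ = _ := by group

theorem sq_l : gen .l * gen .l = 1 := Cfsg.Agent.R08.FiTwentyFour.sq isPt_l.mem
theorem sq_t (i : Fin 23) : t i * t i = 1 := Cfsg.Agent.R08.FiTwentyFour.sq (isPt_t i).mem

/-! ### the involutions -/

theorem mem_a (i : Fin 23) : gen .l * t i ∈ commutator Fi24 := Cfsg.Agent.R08.FiTwentyFour.even isPt_l.mem (isPt_t i).mem

noncomputable def a (i : Fin 23) : Spor.Fi24' := ⟨gen .l * t i, mem_a i⟩

theorem conj_a {g : Fi24} (hg : g ∈ commutator Fi24) {π : Fin 23 → Fin 23} (h0 : rho g 0 = 0) (h1 : ∀ i, rho g (r i) = r (π i))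
    (i : Fin 23) : (⟨g, hg⟩ : Spor.Fi24') * a i * (⟨g, hg⟩ : Spor.Fi24')⁻¹ = a (π i) := by
  apply Subtype.ext
  change g * (gen .l * t i) * g⁻¹ = gen .l * t (π i)
  rw [← conj_t h1 i]
  conv_rhs => rw [← conj_l h0]
  group

theorem comm_aa (i j : Fin 23) : a i * a j = a j * a i := by
  apply Subtype.ext
  change gen .l * t i * (gen .l * t j) = gen .l * t j * (gen .l * t i)
  calc gen .l * t i * (gen .l * t j) = gen .l * (t i * gen .l) * t j := by group
    _ = gen .l * gen .l * (t i * t j) := by rw [← comm_l]; group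
    _ = gen .l * gen .l * (t j * t i) := by rw [comm_t]
    _ = gen .l * (gen .l * t j) * t i := by group
    _ = gen .l * (t j * gen .l) * t i := congrArg (fun z => gen .l * z * t i) (comm_l j)
    _ = gen .l * t j * (gen .l * t i) := by group

theorem sq_a (i : Fin 23) : a i * a i = 1 := by
  apply Subtype.ext
  change gen .l * t i * (gen .l * t i) = 1
  calc gen .l * t i * (gen .l * t i) = gen .l * (t i * gen .l) * t i := by group
    _ = (gen .l * gen .l) * (t i * t i) := by rw [← comm_l]; group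
    _ = 1 := by rw [sq_l, sq_t, one_mul]

theorem ne_a : a 0 ≠ 1 := by
  intro h
  have h1 : gen .l * t 0 = 1 := congrArg Subtype.val h
  have h2 : gen .l = t 0 := by
    calc gen .l = gen .l * t 0 * t 0 := by rw [mul_assoc, sq_t, mul_one]
      _ = t 0 := by rw [h1, one_mul]
  have h3 : IsPt (t 0) 0 := h2 ▸ isPt_l
  have h4 := h3.uniq (isPt_t 0)
  exact absurd h4 (by decide)

/-! ### the relation -/

theorem t_of {i : Fin 23} {w : List Gen} {x : Gen} {q : ℕ} (hc : chkPt (nw w false) (pn x) q = true) (hq : r i = q) :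
    t i = word (w ++ x :: w.reverse) :=
  (isPt_t i).inj (hq ▸ isPt_tr hc)

theorem t_gen {i : Fin 23} {x : Gen} (hq : r i = pn x) : t i = word [x] := by
  rw [word_one]
  exact (isPt_t i).inj (hq ▸ isPt_gen x)

theorem rel22 : (([0, 1, 5, 6, 7, 9, 11] : List (Fin 23)).map fun j => a (22 + j)).prod = 1 := by
  apply Subtype.ext
  have e0 : (22 : Fin 23) + 0 = 22 := by decide
  have e1 : (22 : Fin 23) + 1 = 0 := by decide
  have e5 : (22 : Fin 23) + 5 = 4 := by decide
  have e6 : (22 : Fin 23) + 6 = 5 := by decide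
  have e7 : (22 : Fin 23) + 7 = 6 := by decide
  have e9 : (22 : Fin 23) + 9 = 8 := by decide
  have e11 : (22 : Fin 23) + 11 = 10 := by decide
  simp only [List.map_cons, List.map_nil, List.prod_cons, List.prod_nil, mul_one, e0, e1, e5, e6, e7, e9, e11]
  change gen .l * t 22 * (gen .l * t 0 * (gen .l * t 4 * (gen .l * t 5 * (gen .l * t 6 * (gen .l * t 8 * (gen .l * t 10)))))) = 1
  rw [t_of p5 (i := 22) rfl, t_gen (i := 0) (x := .a) (by decide), t_gen (i := 4) (x := .c) (by decide),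
    t_gen (i := 5) (x := .e) (by decide), t_of p7 (i := 6) rfl, t_gen (i := 8) (x := .h) (by decide), t_of p6 (i := 10) rfl,
    ← word_one]
  simp only [← word_append]
  have h1 := word_eq_of rel0
  rw [word_nil] at h1
  exact h1

theorem ycl : word yw ∈ commutator Fi24 := word_mem (by decide)
theorem xcl : word xw ∈ commutator Fi24 := word_mem (by decide)
theorem zcl : word zw ∈ commutator Fi24 := word_mem (by decide)

theorem rel_step {i : Fin 23} (h : (([0, 1, 5, 6, 7, 9, 11] : List (Fin 23)).map fun j => a (i + j)).prod = 1) :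
    (([0, 1, 5, 6, 7, 9, 11] : List (Fin 23)).map fun j => a ((i + 1) + j)).prod = 1 := by
  have h1 : ∀ l : List (Fin 23), (l.map fun j => a ((i + 1) + j)).prod =
      (⟨word yw, ycl⟩ : Spor.Fi24') * (l.map fun j => a (i + j)).prod * (⟨word yw, ycl⟩ : Spor.Fi24')⁻¹ := by
    intro l
    induction l with
    | nil => simp
    | cons j l ih =>
      have h2 := conj_a ycl (π := py) rho_y0 rho_y (i + j)
      have h3 : py (i + j) = (i + 1) + j := by
        change i + j + 1 = _
        abel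
      rw [List.map_cons, List.prod_cons, ih, List.map_cons, List.prod_cons, ← h3, ← h2]
      group
  rw [h1, h, mul_one, mul_inv_cancel]

theorem rel (i : Fin 23) : (([0, 1, 5, 6, 7, 9, 11] : List (Fin 23)).map fun j => a (i + j)).prod = 1 := by
  have key : ∀ n : ℕ, (([0, 1, 5, 6, 7, 9, 11] : List (Fin 23)).map fun j => a ((py ^ n) 22 + j)).prod = 1 := by
    intro n
    induction n with
    | zero => exact rel22
    | succ n ih =>
      have h1 := rel_step ih
      have h2 : (py ^ (n + 1)) 22 = (py ^ n) 22 + 1 := by rw [pow_succ', Equiv.Perm.mul_apply]; rfl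
      rw [h2]
      exact h1
  have h1 : ∀ i : Fin 23, (py ^ ((i : ℕ) + 1)) 22 = i := by decide +kernel
  have h2 := key ((i : ℕ) + 1)
  rwa [h1] at h2

/-- **The data for `Fi24'`.** -/
noncomputable def dat : Dat Spor.Fi24' where
  a := a
  comm := comm_aa
  sq := sq_a
  ne := ne_a
  rel := rel
  y := ⟨word yw, ycl⟩
  x := ⟨word xw, xcl⟩
  z := ⟨word zw, zcl⟩
  hy := conj_a ycl rho_y0 rho_y
  hx := conj_a xcl rho_x0 rho_x
  hz := conj_a zcl rho_z0 rho_z

end Cfsg.Agent.H26.RIM.Fi24Dat
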