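import Cfsg.Agent.H26.RIM.Fi24Dat
import Cfsg.Agent.H620.RIM.Mult
import Cfsg.Agent.H433.RIM.FiX

/-!
# S4816: the rows `Fi24'`, `p = 5, 11, 13, 23` (helper26)

* `ek_of_noPEx` : if the kernels of the perfect central extensions of `S` have order dividing the prime `q` then `NoPEx p S`
  gives `EK p S`.
* `ek_five`, `ek_eleven`, `ek_thirteen`, `ek_twentythree` : the rows.
-/

set_option autoImplicit false
set_option linter.unusedSectionVars false

namespace Cfsg.Agent.H26.RIM.Fi24Row

open Cfsg Subgroup MulAction Cfsg.Agent.H229.RIM Cfsg.Agent.H665.RIM Cfsg.Agent.H620.RIM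
open scoped commutatorElement

universe u v

/-- `[K, H] ≤ Z(H)` and `H` perfect: `K` is central -/
theorem le_center {H : Type u} [Group H] (hperf : commutator H = ⊤) {K N : Subgroup H} (hN : N ≤ center H)
    (hK : ∀ k ∈ K, ∀ h : H, ⁅k, h⁆ ∈ N) : K ≤ center H := by
  intro k hk
  have hc : ∀ a b : H, b * ⁅k, a⁆ = ⁅k, a⁆ * b := fun a b => mem_center_iff.1 (hN (hK k hk a)) b
  let f : H →* H := MonoidHom.mk' (fun h => ⁅k, h⁆) fun a b => by
    have h1 : ⁅k, a * b⁆ = ⁅k, a⁆ * (a * ⁅k, b⁆ * a⁻¹) := by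
      simp only [commutatorElement_def]
      group
    rw [h1, hc b a, mul_inv_cancel_right]
  have h1 : commutator H ≤ f.ker := by
    rw [commutator_def]
    refine commutator_le.2 fun a _ b _ => ?_
    rw [MonoidHom.mem_ker, map_commutatorElement, commutatorElement_eq_one_iff_mul_comm]
    exact (hc b (f a))
  rw [hperf] at h1
  rw [mem_center_iff]
  intro h
  have h2 : ⁅k, h⁆ = 1 := h1 (mem_top h)
  exact (commutatorElement_eq_one_iff_mul_comm.1 h2).symm

/-- **The module side, for a multiplier of prime order.** -/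
theorem ek_of_noPEx {p q : ℕ} (hq : q.Prime) {S : Type u} [Group S] (hM : MDvd.{u} q S) (hS : NoPEx p S) : EK p S := by
  intro H V _ _ _ _ _ K N φ π hc hπ hker hK
  have hKc : K ≤ center H := le_center hc.perf hc.cen hK
  have h1 : Nat.card π.ker ∣ q := hM H π hπ (hker ▸ hKc) hc.perf
  have h2 : N = K := by
    refine eq_of_le_of_card_ge hc.NK ?_
    have h3 : Nat.card N ∣ Nat.card K := card_dvd_of_le hc.NK
    rw [← hker] at h3 ⊢
    rcases (Nat.dvd_prime hq).1 (h3.trans h1) with h4 | h4
    · exact absurd (eq_bot_of_card_eq N h4) hc.Nne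
    · rw [h4]
      exact Nat.le_of_dvd hq.pos h1
  -- the action of `S`
  let τ : H →* (AddMonoid.End V)ˣ := (DistribMulAction.toAddMonoidEnd H V).toHomUnits
  have hkτ : π.ker ≤ τ.ker := by
    rw [hker, ← h2]
    intro n hn
    rw [MonoidHom.mem_ker]
    exact Units.ext (AddMonoidHom.ext fun v => (hc.ker n).2 hn v)
  let ρ : S →* (AddMonoid.End V)ˣ := π.liftOfSurjective hπ ⟨τ, hkτ⟩
  have hρ : ∀ h : H, ρ (π h) = τ h := fun h => MonoidHom.liftOfRightInverse_comp_apply π _ _ ⟨τ, hkτ⟩ h
  let act : DistribMulAction S V := DistribMulAction.compHom V ((Units.coeHom (AddMonoid.End V)).comp ρ)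
  have hact : ∀ (h : H) (v : V), π h • v = h • v := fun h v => by
    change ((ρ (π h) : (AddMonoid.End V)ˣ) : AddMonoid.End V) v = h • v
    rw [hρ]
    rfl
  refine hS V hc.exp hc.nt (fun s hs => ?_) (fun W hW => hc.irr W fun h w hw => ?_) fun v hv => hc.P1 v ?_
  · obtain ⟨h, rfl⟩ := hπ s
    have h3 : h ∈ π.ker := by
      rw [hker, ← h2]
      refine (hc.ker h).1 fun v => ?_
      rw [← hact, hs]
    exact h3
  · rw [← hact]
    exact hW _ w hw
  · have h3 : stabilizer H v = (stabilizer S v).comap π := by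
      ext h
      rw [mem_comap, mem_stabilizer_iff, mem_stabilizer_iff, hact]
    rw [h3, index_comap_of_surjective _ hπ]
    exact hv

/-- transport of the data -/
def datMap {H : Type u} {H' : Type v} [Group H] [Group H'] (D : M23.Dat H) (e : H ≃* H') : M23.Dat H' where
  a i := e (D.a i)
  comm i j := by rw [← map_mul, D.comm, map_mul]
  sq i := by rw [← map_mul, D.sq, map_one]
  ne h := D.ne ((map_eq_one_iff _ e.injective).1 h)
  rel i := by
    have h1 := congrArg e (D.rel i)
    rw [map_list_prod, map_one, List.map_map] at h1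
    exact h1
  y := e D.y
  x := e D.x
  z := e D.z
  hy i := by rw [← D.hy, map_mul, map_mul, map_inv]
  hx i := by rw [← D.hx, map_mul, map_mul, map_inv]
  hz i := by rw [← D.hz, map_mul, map_mul, map_inv]

section rows

variable {S : Type u} [Group S]

theorem card_eq (h : Spor.IsoFi24' S) : Nat.card S = 1255205709190661721292800 := by
  obtain ⟨e⟩ := h
  rw [Nat.card_congr e.toEquiv]
  exact Cfsg.Agent.R08.FiTwentyFour.card_commutator

theorem finite (h : Spor.IsoFi24' S) : Finite S := Nat.finite_of_card_ne_zero (by rw [card_eq h]; norm_num)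

theorem noPEx_five (h : Spor.IsoFi24' S) : NoPEx 5 S := by
  have := finite h
  obtain ⟨e⟩ := id h
  refine (datMap Fi24Dat.dat e.symm).noPEx_five (e := 2) ?_ ?_
  · rw [card_eq h]; norm_num
  · rw [card_eq h]; norm_num

theorem noPEx_eleven (h : Spor.IsoFi24' S) : NoPEx 11 S := by
  have := finite h
  obtain ⟨e⟩ := id h
  refine (datMap Fi24Dat.dat e.symm).noPEx_eleven (e := 1) ?_ ?_
  · rw [card_eq h]; norm_num
  · rw [card_eq h]; norm_num

theorem noPEx_twentythree (h : Spor.IsoFi24' S) : NoPEx 23 S := by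
  have := finite h
  obtain ⟨e⟩ := id h
  refine (datMap Fi24Dat.dat e.symm).noPEx_twentythree (e := 1) ?_ ?_
  · rw [card_eq h]; norm_num
  · rw [card_eq h]; norm_num

/-- **`Fi24'`, `p = 5`.** -/
theorem ek_five (h : Spor.IsoFi24' S) : EK 5 S := ek_of_noPEx Nat.prime_three (dvd_fi24 h) (noPEx_five h)

/-- **`Fi24'`, `p = 11`.** -/
theorem ek_eleven (h : Spor.IsoFi24' S) : EK 11 S := ek_of_noPEx Nat.prime_three (dvd_fi24 h) (noPEx_eleven h)

/-- **`Fi24'`, `p = 13`.** -/
theorem ek_thirteen (h : Spor.IsoFi24' S) : EK 13 S := ek_of_noPEx Nat.prime_three (dvd_fi24 h) (H433.RIM.noPEx_fi24 h)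

/-- **`Fi24'`, `p = 23`.** -/
theorem ek_twentythree (h : Spor.IsoFi24' S) : EK 23 S := ek_of_noPEx Nat.prime_three (dvd_fi24 h) (noPEx_twentythree h)

end rows

end Cfsg.Agent.H26.RIM.Fi24Row
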