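import Mathlib

/-!
# Weights of commuting involutions (helper26, for S4816)

`H` a finite group acting on a finite elementary abelian `p`-group `V`, `p` odd, `a : ι → H` commuting involutions.

* `Wt a s v` : `a i` acts on `v` as the sign `s i`; `Occ V a s` : the weight `s` occurs in `V`.
* `exists_occ` : a weight with `s i₀ = true` occurs, if `a i₀` acts non-trivially; `Occ.conj`, `Occ.rel`.
* `codim_bound` : `x` permutes the `a i` by `π`, `π ^ p = 1`, `F` a set of occurring weights moved by `π`, in different orbits: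
  `p ^ ((p - 1) |F|) |C_V(x)| ≤ |V|`.
* `union_bound` : if all orbits have length prime to `p` then `|V| ≤ |Syl_p(H)| |C_V(x)|` for all `p`-elements `x`.
* `pow_le` : `p ^ ((p - 1) |F| + e) ≤ |H|` if `p ^ e` divides `|H|`; `x` need not be a `p`-element.
-/

set_option autoImplicit false
set_option linter.unusedSectionVars false

namespace Cfsg.Agent.H26.RIM.Ws

open MulAction

universe u v w

variable {H : Type u} {V : Type v} {ι : Type w} [Group H] [AddCommGroup V] [DistribMulAction H V]

/-- `v` has the weight `s` -/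
def Wt (a : ι → H) (s : ι → Bool) (v : V) : Prop := ∀ i, a i • v = if s i then -v else v

/-- the weight `s` occurs -/
def Occ (V : Type v) [AddCommGroup V] [DistribMulAction H V] (a : ι → H) (s : ι → Bool) : Prop := ∃ v : V, v ≠ 0 ∧ Wt a s v

theorem Wt.zero (a : ι → H) (s : ι → Bool) : Wt a s (0 : V) := fun i => by rw [smul_zero]; split_ifs <;> simp

theorem Wt.add {a : ι → H} {s : ι → Bool} {v w : V} (hv : Wt a s v) (hw : Wt a s w) : Wt a s (v + w) := by
  intro i
  rw [smul_add, hv i, hw i]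
  split_ifs <;> abel

theorem Wt.neg {a : ι → H} {s : ι → Bool} {v : V} (hv : Wt a s v) : Wt a s (-v) := by
  intro i
  rw [smul_neg, hv i]
  split_ifs <;> simp

theorem Wt.sub {a : ι → H} {s : ι → Bool} {v w : V} (hv : Wt a s v) (hw : Wt a s w) : Wt a s (v - w) := by
  rw [sub_eq_add_neg]
  exact hv.add hw.neg

section mod

variable {p : ℕ} [hp : Fact p.Prime] [Module (ZMod p) V]

theorem smul_zmod (h : H) (c : ZMod p) (v : V) : h • (c • v) = c • (h • v) :=
  ZMod.map_smul (DistribSMul.toAddMonoidHom V h) c v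

theorem Wt.smul {a : ι → H} {s : ι → Bool} {v : V} (hv : Wt a s v) (c : ZMod p) : Wt a s (c • v) := by
  intro i
  rw [smul_zmod, hv i]
  split_ifs <;> simp

theorem half (hp2 : p ≠ 2) {v : V} (h : v + v = 0) : v = 0 := by
  have h1 : (2 : ZMod p) • v = 0 := by rw [two_smul, h]
  rcases smul_eq_zero.1 h1 with h2 | h2
  · exfalso
    have h3 : ((2 : ℕ) : ZMod p) = 0 := by exact_mod_cast h2
    rw [ZMod.natCast_eq_zero_iff] at h3
    exact hp2 ((Nat.prime_dvd_prime_iff_eq hp.out Nat.prime_two).1 h3)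
  · exact h2

/-- the sign of a relation -/
theorem Wt.prod_list {a : ι → H} {s : ι → Bool} {v : V} (hv : Wt a s v) (l : List ι) :
    (l.map a).prod • v = if (l.map s).foldr xor false then -v else v := by
  induction l with
  | nil => simp
  | cons i l ih =>
    rw [List.map_cons, List.prod_cons, mul_smul, ih, List.map_cons, List.foldr_cons]
    cases hf : (l.map s).foldr xor false <;> cases hs : s i <;> simp [hs, hv i, smul_neg]

/-- **Relations between the involutions are relations between the signs.** -/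
theorem Occ.rel (hp2 : p ≠ 2) {a : ι → H} {s : ι → Bool} (hs : Occ V a s) {l : List ι} (hl : (l.map a).prod = 1) :
    (l.map s).foldr xor false = false := by
  obtain ⟨v, hv, hw⟩ := hs
  have h1 := hw.prod_list l
  rw [hl, one_smul] at h1
  cases hf : (l.map s).foldr xor false with
  | false => rfl
  | true =>
    rw [hf, if_pos rfl] at h1
    exact absurd (half (p := p) hp2 (v := v) (by nth_rewrite 2 [h1]; exact add_neg_cancel v)) hv

/-- **Vectors of different weights are independent.** -/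
theorem sep (hp2 : p ≠ 2) {a : ι → H} {K : Type*} : ∀ (n : ℕ) (T : Finset K), T.card ≤ n → ∀ (w : K → ι → Bool),
    Set.InjOn w T → ∀ (z : K → V), (∀ k ∈ T, Wt a (w k) (z k)) → ∑ k ∈ T, z k = 0 → ∀ k ∈ T, z k = 0 := by
  classical
  intro n
  induction n with
  | zero =>
    intro T hT w _ z _ _ k hk
    rw [Nat.le_zero, Finset.card_eq_zero] at hT
    rw [hT] at hk
    exact absurd hk (Finset.notMem_empty k)
  | succ n ih =>
    intro T hT w hw z hz hsum k hk
    by_cases h1 : ∀ k' ∈ T, k' = k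
    · have h2 : T = {k} := by
        ext x
        rw [Finset.mem_singleton]
        exact ⟨h1 x, fun h => h ▸ hk⟩
      rw [h2, Finset.sum_singleton] at hsum
      exact hsum
    · push Not at h1
      obtain ⟨k', hk', hne⟩ := h1
      obtain ⟨i, hi⟩ : ∃ i, w k i ≠ w k' i := by
        by_contra hcon
        push Not at hcon
        exact hne (hw hk' hk (funext hcon).symm)
      -- the two parts
      set A := T.filter fun k => w k i = true with hA
      set B := T.filter fun k => ¬ w k i = true with hB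
      have hAB : ∑ k ∈ A, z k + ∑ k ∈ B, z k = 0 := by rw [hA, hB, Finset.sum_filter_add_sum_filter_not, hsum]
      have hAB' : - ∑ k ∈ A, z k + ∑ k ∈ B, z k = 0 := by
        have h3 := congrArg (fun v => a i • v) hAB
        simp only [smul_add, smul_zero, Finset.smul_sum] at h3
        rw [← Finset.sum_neg_distrib, ← h3]
        congr 1
        · refine Finset.sum_congr rfl fun x hx => ?_
          rw [hz x (Finset.mem_filter.1 hx).1 i, if_pos (Finset.mem_filter.1 hx).2]
        · refine Finset.sum_congr rfl fun x hx => ?_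
          rw [hz x (Finset.mem_filter.1 hx).1 i, if_neg (Finset.mem_filter.1 hx).2]
      have hB0 : ∑ k ∈ B, z k = 0 := by
        refine half (p := p) hp2 ?_
        calc ∑ k ∈ B, z k + ∑ k ∈ B, z k = (∑ k ∈ A, z k + ∑ k ∈ B, z k) + (- ∑ k ∈ A, z k + ∑ k ∈ B, z k) := by abel
          _ = 0 := by rw [hAB, hAB', add_zero]
      have hA0 : ∑ k ∈ A, z k = 0 := by rwa [hB0, add_zero] at hAB
      have hcard : A.card + B.card = T.card := Finset.card_filter_add_card_filter_not (s := T) (fun k => w k i = true)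
      have key : ∀ x ∈ T, x ∈ A ∨ x ∈ B := fun x hx => by
        by_cases h : w x i = true
        · exact Or.inl (Finset.mem_filter.2 ⟨hx, h⟩)
        · exact Or.inr (Finset.mem_filter.2 ⟨hx, h⟩)
      have hAne : 0 < A.card ∧ 0 < B.card := by
        by_cases h : w k i = true
        · have h' : ¬ w k' i = true := fun h' => hi (by rw [h, h'])
          exact ⟨Finset.card_pos.2 ⟨k, Finset.mem_filter.2 ⟨hk, h⟩⟩, Finset.card_pos.2 ⟨k', Finset.mem_filter.2 ⟨hk', h'⟩⟩⟩
        · have h' : w k' i = true := by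
            cases h2 : w k' i with
            | true => rfl
            | false =>
              exfalso
              apply hi
              rw [h2]
              simpa using h
          exact ⟨Finset.card_pos.2 ⟨k', Finset.mem_filter.2 ⟨hk', h'⟩⟩, Finset.card_pos.2 ⟨k, Finset.mem_filter.2 ⟨hk, h⟩⟩⟩
      rcases key k hk with h | h
      · exact ih A (by omega) w (hw.mono fun x hx => (Finset.mem_filter.1 hx).1) z
          (fun x hx => hz x (Finset.mem_filter.1 hx).1) hA0 k h
      · exact ih B (by omega) w (hw.mono fun x hx => (Finset.mem_filter.1 hx).1) z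
          (fun x hx => hz x (Finset.mem_filter.1 hx).1) hB0 k h

end mod

/-! ### conjugation -/

theorem Wt.conj {a : ι → H} {s s' : ι → Bool} {v : V} (hv : Wt a s v) {g : H} {π : ι → ι} (hπ : Function.Surjective π)
    (hg : ∀ i, g * a i * g⁻¹ = a (π i)) (hs : ∀ i, s' (π i) = s i) : Wt a s' (g • v) := by
  intro j
  obtain ⟨i, rfl⟩ := hπ j
  rw [← hg i, smul_smul, mul_assoc, inv_mul_cancel, mul_one, mul_smul, hv i, hs i]
  split_ifs
  · rw [smul_neg]
  · rfl

theorem Occ.conj {a : ι → H} {s s' : ι → Bool} (h : Occ V a s) (g : H) {π : ι → ι} (hπ : Function.Surjective π)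
    (hg : ∀ i, g * a i * g⁻¹ = a (π i)) (hs : ∀ i, s' (π i) = s i) : Occ V a s' := by
  obtain ⟨v, hv, hw⟩ := h
  refine ⟨g • v, fun h => hv ?_, hw.conj hπ hg hs⟩
  have h1 := congrArg (fun w => g⁻¹ • w) h
  simpa using h1

/-- **Existence of a weight.** -/
theorem exists_occ {p : ℕ} [hp : Fact p.Prime] (hp2 : p ≠ 2) (hV : ∀ v : V, p • v = 0) [Finite ι] {a : ι → H}
    (hc : ∀ i j, a i * a j = a j * a i) (hsq : ∀ i, a i * a i = 1) {i₀ : ι} (hne : ∃ v : V, a i₀ • v ≠ v) :
    ∃ s, Occ V a s ∧ s i₀ = true := by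
  classical
  let : Module (ZMod p) V := AddCommGroup.zmodModule hV
  have := Fintype.ofFinite ι
  -- simultaneous eigenvectors
  have key : ∀ T : Finset ι, ∃ v : V, v ≠ 0 ∧ a i₀ • v = -v ∧ ∀ i ∈ T, a i • v = v ∨ a i • v = -v := by
    intro T
    induction T using Finset.induction_on with
    | empty =>
      obtain ⟨v, hv⟩ := hne
      refine ⟨v - a i₀ • v, fun h => hv (sub_eq_zero.1 h).symm, ?_, fun i hi => absurd hi (Finset.notMem_empty i)⟩
      rw [smul_sub, smul_smul, hsq, one_smul]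
      abel
    | insert i T hi ih =>
      obtain ⟨v, hv, h0, hT⟩ := ih
      have comm : ∀ (j : ι), a j • a i • v = a i • a j • v := fun j => by rw [smul_smul, hc, ← smul_smul]
      by_cases h1 : v + a i • v = 0
      · have h2 : a i • v = -v := (neg_eq_of_add_eq_zero_right h1).symm
        refine ⟨v, hv, h0, fun j hj => ?_⟩
        rcases Finset.mem_insert.1 hj with rfl | hj
        · exact Or.inr h2
        · exact hT j hj
      · refine ⟨v + a i • v, h1, ?_, fun j hj => ?_⟩
        · rw [smul_add, comm, h0, smul_neg]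
          abel
        · rcases Finset.mem_insert.1 hj with rfl | hj
          · left
            rw [smul_add, smul_smul, hsq, one_smul]
            abel
          · rcases hT j hj with h3 | h3
            · left
              rw [smul_add, comm, h3]
            · right
              rw [smul_add, comm, h3, smul_neg]
              abel
  obtain ⟨v, hv, h0, h1⟩ := key Finset.univ
  refine ⟨fun i => decide (a i • v ≠ v), ⟨v, hv, fun i => ?_⟩, ?_⟩
  · by_cases h2 : a i • v = v
    · simp [h2]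
    · rcases h1 i (Finset.mem_univ i) with h3 | h3
      · exact absurd h3 h2
      · rw [if_pos (decide_eq_true h2), h3]
  · rw [decide_eq_true_iff, h0]
    intro h2
    exact hv (half (p := p) hp2 (by nth_rewrite 2 [← h2]; exact add_neg_cancel v))

/-! ### the codimension -/

section codim

variable {p : ℕ} [hp : Fact p.Prime]

theorem iter_conj {a : ι → H} {x : H} {π : Equiv.Perm ι} (hx : ∀ i, x * a i * x⁻¹ = a (π i)) (n : ℕ) (i : ι) :
    x ^ n * a i * (x ^ n)⁻¹ = a ((π ^ n) i) := by
  induction n generalizing i with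
  | zero => simp
  | succ n ih =>
    rw [pow_succ x, pow_succ π, Equiv.Perm.mul_apply, ← ih, ← hx]
    group

/-- the weights of the conjugates -/
theorem Wt.iter {a : ι → H} {x : H} {π : Equiv.Perm ι} (hx : ∀ i, x * a i * x⁻¹ = a (π i)) {s : ι → Bool} {v : V}
    (hv : Wt a s v) (n : ℕ) : Wt a (fun i => s ((π ^ n)⁻¹ i)) (x ^ n • v) :=
  hv.conj (π ^ n).surjective (iter_conj hx n) fun i => by simp

/-- different iterates -/
theorem iter_inj {π : Equiv.Perm ι} (hπ : π ^ p = 1) {s : ι → Bool} (hs : ∃ i, s (π i) ≠ s i) {m n : ℕ} (hm : m < p) (hn : n < p)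
    (h : ∀ i, s ((π ^ m)⁻¹ i) = s ((π ^ n)⁻¹ i)) : m = n := by
  by_contra hne
  -- the stabilizer of `s` in `ℤ`
  have key : ∀ k : ℤ, (∀ i, s ((π ^ k) i) = s i) → (p : ℤ) ∣ k := by
    intro k hk
    by_contra hd
    have hco : IsCoprime k (p : ℤ) := ((Nat.prime_iff_prime_int.1 hp.out).irreducible.coprime_iff_not_dvd.2 hd).symm
    obtain ⟨u, v, huv⟩ := hco
    have h1 : ∀ (j : ℕ) (i : ι), s (((π ^ k) ^ j) i) = s i := by
      intro j
      induction j with
      | zero => intro i; simp
      | succ j ih => intro i; rw [pow_succ, Equiv.Perm.mul_apply, ih, hk]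
    have h2 : ∀ (j : ℤ) (i : ι), s (((π ^ k) ^ j) i) = s i := by
      intro j i
      obtain ⟨j, rfl | rfl⟩ := j.eq_nat_or_neg
      · rw [zpow_natCast, h1]
      · have h3 := h1 j (((π ^ k) ^ (-(j : ℤ))) i)
        rw [← h3, zpow_neg, zpow_natCast, ← Equiv.Perm.mul_apply, mul_inv_cancel, Equiv.Perm.one_apply]
    obtain ⟨i, hi⟩ := hs
    apply hi
    have h3 : π = (π ^ k) ^ u := by
      have h4 : π ^ (u * k + v * p) = π := by rw [huv, zpow_one]
      rw [zpow_add, zpow_mul' π v, zpow_natCast, hπ, one_zpow, mul_one, mul_comm, zpow_mul] at h4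
      exact h4.symm
    rw [h3]
    exact h2 u i
  have h1 : (p : ℤ) ∣ (m : ℤ) - n := by
    refine key _ fun i => ?_
    have h2 := h ((π ^ m) i)
    rw [← Equiv.Perm.mul_apply, inv_mul_cancel, Equiv.Perm.one_apply] at h2
    rw [h2, zpow_sub, zpow_natCast, zpow_natCast]
    have h3 : Commute (π ^ m) (π ^ n)⁻¹ := ((Commute.refl π).pow_pow m n).inv_right
    rw [h3.eq, Equiv.Perm.mul_apply]
  have h2 : ((m : ℤ) - n).natAbs < p := by omega
  have h3 := Int.natAbs_dvd_natAbs.2 h1
  rw [Int.natAbs_natCast] at h3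
  have h4 := Nat.eq_zero_of_dvd_of_lt h3 h2
  omega

/-- **The codimension of the fixed space.** -/
theorem codim_bound (hp2 : p ≠ 2) (hV : ∀ v : V, p • v = 0) [Finite V] {a : ι → H} {x : H} {π : Equiv.Perm ι}
    (hx : ∀ i, x * a i * x⁻¹ = a (π i)) (hπ : π ^ p = 1) (F : Finset (ι → Bool)) (hF : ∀ s ∈ F, Occ V a s)
    (hmv : ∀ s ∈ F, ∃ i, s (π i) ≠ s i) (hin : ∀ s ∈ F, ∀ t ∈ F, ∀ n : ℕ, (∀ i, s ((π ^ n) i) = t i) → s = t) :
    p ^ ((p - 1) * F.card) * Nat.card {v : V // x • v = v} ≤ Nat.card V := by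
  classical
  let : Module (ZMod p) V := AddCommGroup.zmodModule hV
  obtain ⟨n, rfl⟩ : ∃ n, p = n + 1 := ⟨p - 1, (Nat.succ_pred_prime hp.out).symm⟩
  choose v hv0 hv using fun s : F => hF s.1 s.2
  -- the vectors
  let c : (F → Fin n → ZMod (n + 1)) → F → Fin (n + 1) → ZMod (n + 1) := fun μ s => Fin.cons 0 (μ s)
  let Φ : (F → Fin n → ZMod (n + 1)) → V := fun μ => ∑ s : F, ∑ i : Fin n, μ s i • (x ^ ((i : ℕ) + 1) • v s)
  -- the weights
  let w : F × Fin (n + 1) → ι → Bool := fun k i => k.1.1 ((π ^ (k.2 : ℕ))⁻¹ i)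
  have hw : Function.Injective w := by
    rintro ⟨s, i⟩ ⟨t, j⟩ h
    have h1 : ∀ l, s.1 ((π ^ (i : ℕ))⁻¹ l) = t.1 ((π ^ (j : ℕ))⁻¹ l) := fun l => congrFun h l
    have hst : s = t := by
      have h2 : ∀ l, s.1 ((π ^ ((j : ℕ) + ((n + 1) * i - i))) l) = t.1 l := by
        intro l
        have h3 := h1 ((π ^ (j : ℕ)) l)
        rw [← Equiv.Perm.mul_apply (π ^ (j : ℕ))⁻¹, inv_mul_cancel, Equiv.Perm.one_apply] at h3
        rw [← h3, ← Equiv.Perm.mul_apply]
        have h4 : (π ^ (i : ℕ))⁻¹ = π ^ ((n + 1) * (i : ℕ) - i) := by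
          rw [inv_eq_iff_mul_eq_one, ← pow_add, Nat.add_sub_cancel' (Nat.le_mul_of_pos_left _ (Nat.succ_pos n)), pow_mul, hπ,
            one_pow]
        rw [h4, ← pow_add, Nat.add_comm]
      exact Subtype.ext (hin s.1 s.2 t.1 t.2 _ h2)
    subst hst
    have hij : (i : ℕ) = j := iter_inj hπ (hmv s.1 s.2) i.2 j.2 h1
    rw [Fin.ext hij]
  -- injectivity
  have key : ∀ μ, x • Φ μ = Φ μ → μ = 0 := by
    intro μ h
    let z : F × Fin (n + 1) → V := fun k => (Fin.cons (-(c μ k.1 (Fin.last n) • (x ^ (n + 1) • v k.1)))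
      (fun i : Fin n => (μ k.1 i - c μ k.1 i.castSucc) • (x ^ ((i : ℕ) + 1) • v k.1)) : Fin (n + 1) → V) k.2
    have hz : ∀ k, Wt a (w k) (z k) := by
      rintro ⟨s, i⟩
      refine Fin.cases ?_ (fun i => ?_) i
      · have h1 : Wt a (w (s, 0)) (x ^ (n + 1) • v s) := by
          have h2 := (hv s).iter hx (n + 1)
          rw [hπ] at h2
          exact h2
        exact (h1.smul _).neg
      · exact ((hv s).iter hx ((i : ℕ) + 1)).smul _
    have hsum : ∑ k : F × Fin (n + 1), z k = 0 := by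
      rw [Fintype.sum_prod_type]
      have h1 : ∀ s : F, ∑ i : Fin (n + 1), z (s, i) = ∑ i : Fin n, μ s i • (x ^ ((i : ℕ) + 1) • v s) -
          x • ∑ i : Fin n, μ s i • (x ^ ((i : ℕ) + 1) • v s) := by
        intro s
        rw [Fin.sum_univ_succ]
        have h2 : x • ∑ i : Fin n, μ s i • (x ^ ((i : ℕ) + 1) • v s) = ∑ i : Fin (n + 1), c μ s i • (x ^ ((i : ℕ) + 1) • v s) := by
          rw [Fin.sum_univ_succ, Finset.smul_sum]
          have h3 : c μ s 0 = 0 := rfl
          rw [h3, zero_smul, zero_add]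
          refine Finset.sum_congr rfl fun i _ => ?_
          rw [smul_zmod, smul_smul, ← pow_succ']
          rfl
        rw [h2, Fin.sum_univ_castSucc]
        have h4 : ∀ i : Fin n, z (s, i.succ) = μ s i • (x ^ ((i : ℕ) + 1) • v s) - c μ s i.castSucc • (x ^ ((i : ℕ) + 1) • v s) :=
          fun i => sub_smul _ _ _
        rw [Finset.sum_congr rfl fun i _ => h4 i, Finset.sum_sub_distrib]
        have h5 : z (s, 0) = -(c μ s (Fin.last n) • (x ^ (n + 1) • v s)) := rfl
        rw [h5]
        simp only [Fin.val_castSucc, Fin.val_last]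
        abel
      rw [Finset.sum_congr rfl fun s _ => h1 s, Finset.sum_sub_distrib, ← Finset.smul_sum]
      change Φ μ - x • Φ μ = 0
      rw [h, sub_self]
    have h0 := sep hp2 _ Finset.univ le_rfl w hw.injOn z (fun k _ => hz k) hsum
    have hne : ∀ (s : F) (i : ℕ) (d : ZMod (n + 1)), d • (x ^ i • v s) = 0 → d = 0 := by
      intro s i d hd
      rcases smul_eq_zero.1 hd with h1 | h1
      · exact h1
      · exfalso
        apply hv0 s
        have h2 := congrArg (fun w => (x ^ i)⁻¹ • w) h1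
        simpa using h2
    funext s i
    have h1 : ∀ i : Fin n, μ s i = c μ s i.castSucc := fun i =>
      sub_eq_zero.1 (hne s _ _ (h0 (s, i.succ) (Finset.mem_univ _)))
    have h2 : ∀ (j : ℕ) (hj : j < n), μ s ⟨j, hj⟩ = 0 := by
      intro j
      induction j with
      | zero =>
        intro hj
        rw [h1]
        rfl
      | succ j ih =>
        intro hj
        rw [h1]
        have h3 : c μ s (Fin.castSucc ⟨j + 1, hj⟩) = μ s ⟨j, by omega⟩ := rfl
        rw [h3]
        exact ih _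
    exact h2 i.1 i.2
  have hadd : ∀ μ ν, Φ (μ - ν) = Φ μ - Φ ν := by
    intro μ ν
    change ∑ s : F, ∑ i : Fin n, (μ s i - ν s i) • (x ^ ((i : ℕ) + 1) • v s) = _
    simp only [sub_smul, Finset.sum_sub_distrib]
    rfl
  have hinj : Function.Injective (fun z : (F → Fin n → ZMod (n + 1)) × {v : V // x • v = v} => Φ z.1 + z.2.1) := by
    rintro ⟨μ, b⟩ ⟨ν, d⟩ h
    have h1 : Φ μ + b.1 = Φ ν + d.1 := h
    have h2 : Φ (μ - ν) = d.1 - b.1 := by
      rw [hadd, sub_eq_sub_iff_add_eq_add, h1, add_comm]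
    have h3 := key (μ - ν) (by rw [h2, smul_sub, d.2, b.2])
    have h4 : μ = ν := sub_eq_zero.1 h3
    subst h4
    exact Prod.ext rfl (Subtype.ext (add_left_cancel h1))
  have h1 := Nat.card_le_card_of_injective _ hinj
  refine le_trans (le_of_eq ?_) h1
  rw [Nat.card_prod, Nat.card_fun, Nat.card_fun, Nat.card_zmod, Nat.card_eq_fintype_card (α := Fin n), Fintype.card_fin,
    Nat.card_eq_fintype_card (α := F), Fintype.card_coe, ← pow_mul, Nat.add_sub_cancel]

/-- **The union bound.** -/
theorem union_bound [Finite H] [Finite V] (hst : ∀ v : V, ¬ p ∣ (stabilizer H v).index) {x : H} (hx : ∃ k : ℕ, x ^ p ^ k = 1) :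
    Nat.card V ≤ Nat.card (Sylow p H) * Nat.card {v : V // x • v = v} := by
  classical
  obtain ⟨k, hk⟩ := hx
  have hxp : IsPGroup p (Subgroup.zpowers x) := by
    rintro ⟨y, j, rfl⟩
    refine ⟨k, Subtype.ext ?_⟩
    change (x ^ j) ^ p ^ k = 1
    rw [← zpow_natCast, ← zpow_mul, mul_comm, zpow_mul, zpow_natCast, hk, one_zpow]
  obtain ⟨P, hP⟩ := hxp.exists_le_sylow
  have hxP : x ∈ (P : Subgroup H) := hP (Subgroup.mem_zpowers x)
  let C : Sylow p H → Type _ := fun Q => {v : V // ∀ g ∈ (Q : Subgroup H), g • v = v}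
  have hC : ∀ Q, Nat.card (C Q) ≤ Nat.card {v : V // x • v = v} := by
    intro Q
    obtain ⟨g, rfl⟩ := MulAction.exists_smul_eq H P Q
    refine Nat.card_le_card_of_injective (fun v : C (g • P) => (⟨g⁻¹ • v.1, ?_⟩ : {v : V // x • v = v})) ?_
    · have h1 := v.2 (g * x * g⁻¹) (by
        rw [Sylow.coe_subgroup_smul]
        exact Subgroup.mem_pointwise_smul_iff_inv_smul_mem.2 (by simpa [mul_assoc, MulAut.smul_def] using hxP))
      have h2 : x * g⁻¹ = g⁻¹ * (g * x * g⁻¹) := by group
      rw [smul_smul, h2, mul_smul, h1]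
    · intro v w h
      exact Subtype.ext (MulAction.injective g⁻¹ (congrArg Subtype.val h))
  have hex : ∀ v : V, ∃ Q : Sylow p H, ∀ g ∈ (Q : Subgroup H), g • v = v := by
    intro v
    let R : Sylow p (stabilizer H v) := default
    have hcard : Nat.card ((R : Subgroup (stabilizer H v)).map (stabilizer H v).subtype) = p ^ (Nat.card H).factorization p := by
      rw [Nat.card_congr ((R : Subgroup (stabilizer H v)).equivMapOfInjective _ (stabilizer H v).subtype_injective).toEquiv.symm,
        R.card_eq_multiplicity]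
      congr 1
      rw [← (stabilizer H v).card_mul_index, Nat.factorization_mul Nat.card_pos.ne' Subgroup.index_ne_zero_of_finite,
        Finsupp.add_apply, Nat.factorization_eq_zero_of_not_dvd (hst v), add_zero]
    refine ⟨Sylow.ofCard _ hcard, fun g hg => ?_⟩
    obtain ⟨r, -, rfl⟩ : g ∈ (R : Subgroup (stabilizer H v)).map (stabilizer H v).subtype := hg
    exact r.2
  choose Q hQ using hex
  have h1 : Nat.card V ≤ Nat.card (Σ Q : Sylow p H, C Q) :=
    Nat.card_le_card_of_injective (fun v => ⟨Q v, v, hQ v⟩) (fun v w h => by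
      have h2 := congrArg (fun z : Σ Q : Sylow p H, C Q => z.2.1) h
      exact h2)
  have := Fintype.ofFinite (Sylow p H)
  rw [Nat.card_sigma] at h1
  refine h1.trans ?_
  rw [Nat.card_eq_fintype_card (α := Sylow p H), ← smul_eq_mul]
  exact Finset.sum_le_card_nsmul _ _ _ fun Q _ => hC Q

/-- the `p`-part of an element -/
theorem exists_ppart [Finite H] (x : H) : ∃ N : ℕ, N ≡ 1 [MOD p] ∧ ∃ k : ℕ, (x ^ N) ^ p ^ k = 1 := by
  obtain ⟨k, m, hm, hcard⟩ := Nat.exists_eq_pow_mul_and_not_dvd (Nat.card_pos (α := H)).ne' p hp.out.ne_one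
  have hco : Nat.Coprime p m := (Nat.Prime.coprime_iff_not_dvd hp.out).2 hm
  obtain ⟨N, hN1, hN2⟩ := Nat.chineseRemainder hco 1 0
  refine ⟨N, hN1, k, ?_⟩
  rw [← pow_mul]
  have h1 : Nat.card H ∣ N * p ^ k := by
    rw [hcard, mul_comm]
    exact mul_dvd_mul ((Nat.modEq_zero_iff_dvd).1 hN2) dvd_rfl
  exact orderOf_dvd_iff_pow_eq_one.1 ((orderOf_dvd_natCard x).trans h1)

/-- **The bound for the order of the group.** -/
theorem pow_le [Finite H] (hp2 : p ≠ 2) (hV : ∀ v : V, p • v = 0) [Finite V] (hst : ∀ v : V, ¬ p ∣ (stabilizer H v).index)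
    {a : ι → H} {x : H} {π : Equiv.Perm ι} (hx : ∀ i, x * a i * x⁻¹ = a (π i)) (hπ : π ^ p = 1) (F : Finset (ι → Bool))
    (hF : ∀ s ∈ F, Occ V a s) (hmv : ∀ s ∈ F, ∃ i, s (π i) ≠ s i)
    (hin : ∀ s ∈ F, ∀ t ∈ F, ∀ n : ℕ, (∀ i, s ((π ^ n) i) = t i) → s = t) {e : ℕ} (he : p ^ e ∣ Nat.card H) :
    p ^ ((p - 1) * F.card + e) ≤ Nat.card H := by
  obtain ⟨N, hN, hk⟩ := exists_ppart (p := p) x
  have hxN : ∀ i, x ^ N * a i * (x ^ N)⁻¹ = a (π i) := by
    intro i
    rw [iter_conj hx]
    congr 1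
    have h1 : π ^ N = π ^ 1 := pow_eq_pow_iff_modEq.2 (hN.of_dvd (orderOf_dvd_of_pow_eq_one hπ))
    rw [h1, pow_one]
  have h1 := codim_bound hp2 hV hxN hπ F hF hmv hin
  have h2 := union_bound (p := p) hst hk
  have h3 : 0 < Nat.card {v : V // x ^ N • v = v} := by
    have : Nonempty {v : V // x ^ N • v = v} := ⟨⟨0, smul_zero _⟩⟩
    exact Nat.card_pos
  have h4 : p ^ ((p - 1) * F.card) ≤ Nat.card (Sylow p H) := Nat.le_of_mul_le_mul_right (h1.trans h2) h3
  let P : Sylow p H := default
  have h5 : Nat.card (Sylow p H) ≤ (P : Subgroup H).index := Nat.le_of_dvd (Nat.pos_of_ne_zero Subgroup.index_ne_zero_of_finite)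
    (Sylow.card_dvd_index P)
  have h6 : p ^ e ≤ Nat.card P := by
    rw [P.card_eq_multiplicity]
    exact Nat.pow_le_pow_right hp.out.pos ((hp.out.pow_dvd_iff_le_factorization Nat.card_pos.ne').1 he)
  calc p ^ ((p - 1) * F.card + e) = p ^ ((p - 1) * F.card) * p ^ e := pow_add _ _ _
    _ ≤ (P : Subgroup H).index * Nat.card P := Nat.mul_le_mul (h4.trans h5) h6
    _ = Nat.card H := by rw [mul_comm]; exact (P : Subgroup H).card_mul_index

end codim

end Cfsg.Agent.H26.RIM.Ws
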